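import Cfsg.Agent.Lib.HeType.Tri.Bound

/-!
# The homomorphism from a model to any system with the same certificate
-/

set_option autoImplicit false
set_option linter.unusedSectionVars false

namespace CfsgLib.HeType.Tri

open CfsgLib.HeType.Cert

variable {G M : Type*} [Group G] [Group M] {D : Data} {f : ℕ → G} {s : ℕ → G} {f' : ℕ → M} {s' : ℕ → M}

theorem tokEl_prod (x : Tok) :
    tokEl D (fun c => (f c, f' c)) (fun k => (s k, s' k)) x = (tokEl D f s x, tokEl D f' s' x) := by
  cases x with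
  | c x => rfl
  | s k =>
    simp only [tokEl, sx]
    split_ifs <;> rfl

theorem Sys.prod (S : Sys D f s) (S' : Sys D f' s') :
    Sys D (fun c => (f c, f' c)) (fun k => (s k, s' k)) where
  mul c d hc hd := Prod.ext (S.mul c d hc hd) (S'.mul c d hc hd)
  lt := S.lt
  inj c d hc hd h := S'.inj c d hc hd (congrArg Prod.snd h)
  conj k hk x hx := Prod.ext (S.conj k hk x hx) (S'.conj k hk x hx)
  rel w hw := by
    have key : ∀ v : List Tok, wEval D (fun c => (f c, f' c)) (fun k => (s k, s' k)) v =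
        (wEval D f s v, wEval D f' s' v) := by
      intro v
      induction v with
      | nil => rfl
      | cons x v ih =>
        simp only [wEval, List.map_cons, List.prod_cons] at ih ⊢
        rw [ih, tokEl_prod]
        rfl
    rw [key, S.rel w hw, S'.rel w hw]
    rfl

/-- A model of full order maps onto every system. -/
theorem exists_hom [Finite M] (hf : factsOk D = true) (he : endOk D = true) (S : Sys D f s) (S' : Sys D f' s')
    (hgen : Subgroup.closure (Sys.gensSet D f' s') = ⊤) (hcard : Nat.card M = D.n * NC) :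
    ∃ φ : M →* G, (∀ c < NC, φ (f' c) = f c) ∧ (∀ k < D.K, φ (s' k) = s k) ∧
      φ.range = Subgroup.closure (Sys.gensSet D f s) := by
  have S2 := S.prod S'
  set E := Subgroup.closure (Sys.gensSet D (fun c => (f c, f' c)) (fun k => (s k, s' k))) with hE
  obtain ⟨hfin, hle⟩ := S2.card_closure_le hf he
  haveI : Finite ↥E := hfin
  let π : ↥E →* M := (MonoidHom.snd G M).comp E.subtype
  have hmap : E.map (MonoidHom.snd G M) = ⊤ := by
    rw [hE, MonoidHom.map_closure, ← hgen]
    congr 1
    simp only [Sys.gensSet, Set.image_union, Set.image_image, MonoidHom.coe_snd]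
  have hsur : Function.Surjective π := fun m => by
    obtain ⟨e, he', rfl⟩ := Subgroup.mem_map.1 (hmap ▸ Subgroup.mem_top m)
    exact ⟨⟨e, he'⟩, rfl⟩
  have hbij : Function.Bijective π :=
    (Nat.bijective_iff_surjective_and_card π).2 ⟨hsur, le_antisymm (hle.trans hcard.ge) (Nat.card_le_card_of_surjective π hsur)⟩
  let e := MulEquiv.ofBijective π hbij
  let φ : M →* G := ((MonoidHom.fst G M).comp E.subtype).comp e.symm.toMonoidHom
  have hφ : ∀ x : ↥E, φ x.1.2 = x.1.1 := fun x => by
    show (e.symm (π x)).1.1 = _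
    rw [show e.symm (π x) = x from e.symm_apply_apply x]
  refine ⟨φ, fun c hc => hφ ⟨_, Subgroup.subset_closure (Or.inl ⟨c, hc, rfl⟩)⟩,
    fun k hk => hφ ⟨_, Subgroup.subset_closure (Or.inr ⟨k, hk, rfl⟩)⟩, ?_⟩
  rw [MonoidHom.range_eq_map, ← hgen, MonoidHom.map_closure]
  congr 1
  simp only [Sys.gensSet, Set.image_union, Set.image_image]
  congr 1
  · exact Set.image_congr fun c hc => hφ ⟨_, Subgroup.subset_closure (Or.inl ⟨c, hc, rfl⟩)⟩
  · exact Set.image_congr fun k hk => hφ ⟨_, Subgroup.subset_closure (Or.inr ⟨k, hk, rfl⟩)⟩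

/-- An involution fixing only the identity of a finite normal subgroup inverts it. -/
theorem inverted [Finite M] {N : Subgroup M} [hN : N.Normal] {u : M} (hu : u * u = 1)
    (hfix : ∀ x ∈ N, u * x = x * u → x = 1) {n : M} (hn : n ∈ N) : u * n * u = n⁻¹ := by
  have hui : u⁻¹ = u := inv_eq_of_mul_eq_one_right hu
  let T : ↥N → ↥N := fun x => ⟨(x : M)⁻¹ * (u * x * u), mul_mem (inv_mem x.2) (by
    have := hN.conj_mem _ x.2 u
    rwa [hui] at this)⟩
  have hinj : Function.Injective T := fun x y h => by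
    have h' : (x : M)⁻¹ * (u * x * u) = (y : M)⁻¹ * (u * y * u) := congrArg Subtype.val h
    have hz : u * ((y : M) * (x : M)⁻¹) = ((y : M) * (x : M)⁻¹) * u := by
      calc u * ((y : M) * (x : M)⁻¹) = (u * y * u) * (u * x * u)⁻¹ * u := by
            rw [mul_inv_rev, mul_inv_rev, hui]
            have huu : ∀ z : M, u * (u * z) = z := fun z => by rw [← mul_assoc, hu, one_mul]
            simp [mul_assoc, hu, huu]
        _ = (u * y * u) * ((x : M) * ((y : M)⁻¹ * (u * y * u)))⁻¹ * u := by rw [← h', mul_inv_cancel_left]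
        _ = _ := by group
    exact Subtype.ext (mul_inv_eq_one.1 (hfix _ (mul_mem y.2 (inv_mem x.2)) hz)).symm
  obtain ⟨x, hx⟩ := (Finite.injective_iff_surjective.1 hinj) ⟨n, hn⟩
  have hx' : (x : M)⁻¹ * (u * x * u) = n := congrArg Subtype.val hx
  rw [← hx', mul_inv_rev, mul_inv_rev, mul_inv_rev, inv_inv, hui]
  simp only [mul_assoc, hu, mul_one]

/-- The homomorphism is injective when the codes make up a centraliser with conjugate involutions. -/
theorem hom_injective [Finite M] (S : Sys D f s) (S' : Sys D f' s') (φ : M →* G)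
    (hφ : ∀ c < NC, φ (f' c) = f c) (hcent : ∀ x : M, x * f' 64 = f' 64 * x → ∃ c < NC, f' c = x)
    (h1 : ∃ g : M, g * f' 64 * g⁻¹ = f' 1) (h2 : ∃ g : M, g * f' 64 * g⁻¹ = f' 65) : Function.Injective φ := by
  rw [← MonoidHom.ker_eq_bot_iff, Subgroup.eq_bot_iff_forall]
  intro n hn
  have hfix : ∀ u, (∃ g : M, g * f' 64 * g⁻¹ = u) → ∀ x ∈ φ.ker, u * x = x * u → x = 1 := by
    rintro u ⟨g, rfl⟩ x hx hc
    have hy : g⁻¹ * x * g ∈ φ.ker := by
      have := (MonoidHom.normal_ker φ).conj_mem x hx g⁻¹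
      rwa [inv_inv] at this
    obtain ⟨c, hc', e⟩ := hcent (g⁻¹ * x * g) (by
      calc g⁻¹ * x * g * f' 64 = g⁻¹ * (x * (g * f' 64 * g⁻¹)) * g := by group
        _ = g⁻¹ * (g * f' 64 * g⁻¹ * x) * g := by rw [hc]
        _ = _ := by group)
    have h0 : f c = 1 := by rw [← hφ c hc', e]; exact hy
    rw [S.inj c 0 hc' (by norm_num [NC]) (h0.trans S.one.symm), S'.one] at e
    have : x = g * (g⁻¹ * x * g) * g⁻¹ := by group
    rw [this, ← e]; group
  have sq : ∀ c, c < NC → fMul c c = 0 → f' c * f' c = 1 := fun c hc h => by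
    rw [S'.mul c c hc hc, h, S'.one]
  have a64 := inverted (N := φ.ker) (sq 64 (by norm_num [NC]) (by decide +kernel)) (hfix _ ⟨1, by group⟩) hn
  have a1 : ∀ m ∈ φ.ker, f' 1 * m * f' 1 = m⁻¹ := fun m hm =>
    inverted (N := φ.ker) (sq 1 (by norm_num [NC]) (by decide +kernel)) (hfix _ h1) hm
  have a65 := inverted (N := φ.ker) (sq 65 (by norm_num [NC]) (by decide +kernel)) (hfix _ h2) hn
  have e65 : f' 65 = f' 1 * f' 64 := by
    rw [S'.mul 1 64 (by norm_num [NC]) (by norm_num [NC]), show fMul 1 64 = 65 by decide +kernel]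
  have e65' : f' 65 = f' 64 * f' 1 := by
    rw [S'.mul 64 1 (by norm_num [NC]) (by norm_num [NC]), show fMul 64 1 = 65 by decide +kernel]
  have hnn : n⁻¹ = n := by
    rw [← a65]
    calc f' 65 * n * f' 65 = f' 1 * (f' 64 * n * f' 64) * f' 1 := by
          nth_rw 1 [e65]; rw [e65']; group
      _ = f' 1 * n⁻¹ * f' 1 := by rw [a64]
      _ = n := by rw [a1 _ (inv_mem hn), inv_inv]
  refine hfix (f' 64) ⟨1, by group⟩ n hn ?_
  rw [hnn] at a64
  calc f' 64 * n = (f' 64 * n * f' 64) * f' 64 := by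
        rw [mul_assoc (f' 64 * n), sq 64 (by norm_num [NC]) (by decide +kernel), mul_one]
    _ = n * f' 64 := by rw [a64]

end CfsgLib.HeType.Tri
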