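import Cfsg.Agent.Lib.HeType.Tri.Sound

/-!
# The cancellation relations hold for any extra elements
-/

set_option autoImplicit false

namespace CfsgLib.HeType.Tri

variable {G : Type*} [Group G] (D : Data) (f : ℕ → G) (s : ℕ → G)

theorem wEval_cancel_left {k : ℕ} (hk : k < D.K) : wEval D f s [.s (k + D.K), .s k] = 1 := by
  simp [wEval, tokEl, sx, hk]

theorem wEval_cancel_right {k : ℕ} (hk : k < D.K) : wEval D f s [.s k, .s (k + D.K)] = 1 := by
  simp [wEval, tokEl, sx, hk]

theorem wEval_append (u v : List Tok) : wEval D f s (u ++ v) = wEval D f s u * wEval D f s v := by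
  simp [wEval]

end CfsgLib.HeType.Tri
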