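import Cfsg.Agent.Lib.HeType.Tri.Check
import Cfsg.Agent.Lib.HeType.Coords.LTable

/-!
# Every code is a product of five codes
-/

set_option autoImplicit false
set_option maxRecDepth 100000
set_option Elab.async false

namespace CfsgLib.HeType.Tri

open CfsgLib.HeType.Cert

/-- The product of some codes. -/
def prodW (w : List ℕ) : ℕ := w.foldr fMul 0

/-- Words for the seven codes of the extraspecial subgroup. -/
def qWords : List (List ℕ) :=
  [[1], [128, 1, 128, 128, 128, 128, 128, 128], [128, 128, 1, 128, 128, 128, 128, 128],
    [8], [128, 8, 128, 128, 128, 128, 128, 128], [128, 128, 8, 128, 128, 128, 128, 128], [1, 8, 1, 8]]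

/-- The word of a code of the extraspecial subgroup. -/
def qWord (v : ℕ) : List ℕ := (List.range 7).flatMap fun i => if v.testBit i then qWords.getD i [] else []

/-- The word of a class. -/
def lWordC (l : ℕ) : List ℕ := (CfsgLib.HeType.lPaths.getD l []).map fun k => 128 * (k + 1)

theorem qWord_check : ((List.range 128).all fun v =>
    Nat.beq (prodW (qWord v)) v && (qWord v).all fun x => cGens.contains x) = true := by decide +kernel

theorem lWordC_check : ((List.range 168).all fun l =>
    Nat.beq (prodW (lWordC l)) (128 * l) && (lWordC l).all fun x => cGens.contains x) = true := by decide +kernel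

theorem split_check0 : ((List.range 84).all fun l => (List.range 128).all fun v =>
    Nat.beq (fMul v (128 * l)) (v + 128 * l)) = true := by decide +kernel

theorem split_check1 : ((List.range' 84 84).all fun l => (List.range 128).all fun v =>
    Nat.beq (fMul v (128 * l)) (v + 128 * l)) = true := by decide +kernel

end CfsgLib.HeType.Tri
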