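import Cfsg.Agent.Lib.HeType.Tri.Sound

/-!
# The bound on the generated group
-/

set_option autoImplicit false
set_option linter.unusedSectionVars false
set_option linter.constructorNameAsVariable false

namespace CfsgLib.HeType.Tri

open CfsgLib.HeType.Cert
open scoped Classical

attribute [local irreducible] NC

variable {G : Type*} [Group G] {D : Data} {f : ℕ → G} {s : ℕ → G}

/-- Bounds on the data. -/
theorem dgens_lt (h : endOk D = true) : ∀ k < D.K, ∀ x ∈ D.dgens.getD k [], x.1 < NC ∧ x.2 < NC := by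
  intro k _ x hx
  simp only [endOk, Bool.and_eq_true] at h
  rcases lt_or_ge k D.dgens.length with hk | hk
  · rw [List.getD_eq_getElem _ _ hk] at hx
    exact code2_iff.1 (List.all_eq_true.1 (List.all_eq_true.1 h.2 _ (List.getElem_mem _)) x hx)
  · rw [List.getD_eq_default _ _ hk] at hx; simp at hx

theorem gEl_zero : gEl D f s 0 = 1 := by
  rw [gEl]
  exact if_pos rfl

theorem cGens_lt {g : ℕ} (h : g ∈ cGens) : g < NC := by
  simp only [cGens, List.mem_cons, List.not_mem_nil, or_false] at h
  simp only [NC]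
  omega

theorem cGens_get {g : ℕ} (h : g ∈ cGens) : ∃ i < 5, cGens.getD i 0 = g := by
  simp only [cGens, List.mem_cons, List.not_mem_nil, or_false] at h
  rcases h with rfl | rfl | rfl | rfl | rfl
  exacts [⟨0, by norm_num, rfl⟩, ⟨1, by norm_num, rfl⟩, ⟨2, by norm_num, rfl⟩, ⟨3, by norm_num, rfl⟩,
    ⟨4, by norm_num, rfl⟩]

theorem total_bound (l : List Live) (F : ℕ → ℕ) (m n : ℕ) (h0 : F 0 ≤ m) (h : ∀ L ∈ l, F L.node ≤ L.size * m)
    (hn : 1 + (l.map Live.size).sum = n) : F 0 + (l.map (F ∘ Live.node)).sum ≤ n * m := by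
  subst hn
  rw [Nat.add_mul, one_mul]
  refine Nat.add_le_add h0 ?_
  clear h0
  induction l with
  | nil => simp
  | cons L l ih =>
    simp only [List.map_cons, List.sum_cons, Function.comp_apply, Nat.add_mul]
    exact Nat.add_le_add (h L (by simp)) (ih fun L' hL' => h L' (by simp [hL']))

namespace Sys

variable (S : Sys D f s)

include S

theorem prodW_spec : ∀ w : List ℕ, (∀ x ∈ w, x < NC) → prodW w < NC ∧ f (prodW w) = (w.map f).prod
  | [], _ => by simp [prodW, NC, S.one]
  | x :: w, h => by
    obtain ⟨h1, h2⟩ := prodW_spec w fun y hy => h y (by simp [hy])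
    refine ⟨S.lt _ _ (h x (by simp)) h1, ?_⟩
    show f (fMul x (prodW w)) = _
    rw [← S.mul _ _ (h x (by simp)) h1, h2]
    simp

/-- A property of the images closed under the five generators holds for all of them. -/
theorem code_induct {P : G → Prop} (h1 : P 1) (hg : ∀ x g, g ∈ cGens → P x → P (x * f g)) {c : ℕ} (hc : c < NC) :
    P (f c) := by
  have key : ∀ (w : List ℕ), (∀ x ∈ w, x ∈ cGens) → ∀ y, P y → P (y * (w.map f).prod) := by
    intro w
    induction w with
    | nil => intro _ y hy; simpa using hy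
    | cons x w ih =>
      intro hw y hy
      rw [List.map_cons, List.prod_cons, ← mul_assoc]
      exact ih (fun z hz => hw z (by simp [hz])) _ (hg y x (hw x (by simp)) hy)
  have hl : c / 128 < 168 := by simp only [NC] at hc; omega
  have hv := List.all_eq_true.1 qWord_check (c % 128) (List.mem_range.2 (Nat.mod_lt _ (by norm_num)))
  have hw := List.all_eq_true.1 lWordC_check (c / 128) (List.mem_range.2 hl)
  simp only [Bool.and_eq_true, List.all_eq_true, List.contains_iff_mem] at hv hw
  have hsplit : fMul (c % 128) (128 * (c / 128)) = c := by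
    have hm := List.mem_range.2 (Nat.mod_lt c (by norm_num : (128 : ℕ) > 0))
    have e : c % 128 + 128 * (c / 128) = c := Nat.mod_add_div c 128
    rcases lt_or_ge (c / 128) 84 with h | h
    · exact (beq_true (List.all_eq_true.1 (List.all_eq_true.1 split_check0 _ (List.mem_range.2 h)) _ hm)).trans e
    · exact (beq_true (List.all_eq_true.1 (List.all_eq_true.1 split_check1 _
        (by simp [List.mem_range'_1]; omega)) _ hm)).trans e
  rw [← hsplit, ← S.mul _ _ (by simp only [NC]; omega) (by simp only [NC]; omega), ← beq_true hv.1, ← beq_true hw.1,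
    (S.prodW_spec _ fun x hx => cGens_lt (hv.2 x hx)).2, (S.prodW_spec _ fun x hx => cGens_lt (hw.2 x hx)).2]
  have h2 := key _ hw.2 _ (key _ hv.2 1 h1)
  rwa [one_mul] at h2

/-- The codes as a subgroup. -/
theorem exists_inv {c : ℕ} (hc : c < NC) : ∃ d < NC, f c * f d = 1 := by
  let T : Fin NC → Fin NC := fun d => ⟨fMul c d, S.lt _ _ hc d.2⟩
  have hinj : Function.Injective T := fun d d' h => by
    have h' : fMul c d = fMul c d' := congrArg Fin.val h
    refine Fin.ext (S.inj _ _ d.2 d'.2 (mul_left_cancel (a := f c) ?_))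
    rw [S.mul _ _ hc d.2, S.mul _ _ hc d'.2, h']
  obtain ⟨d, hd⟩ := (Finite.injective_iff_surjective.1 hinj) ⟨0, by norm_num [NC]⟩
  refine ⟨d, d.2, ?_⟩
  rw [S.mul _ _ hc d.2, show fMul c d = 0 from congrArg Fin.val hd, S.one]

variable (hf : factsOk D = true) (he : endOk D = true)

include hf he

/-- A product set of one node. -/
noncomputable def dc (D : Data) (f : ℕ → G) (s : ℕ → G) (i : ℕ) : Finset G :=
  (((Finset.range NC).image f) ×ˢ ((Finset.range NC).image f)).image fun p => p.1 * gEl D f s i * p.2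

omit hf he in
theorem mem_dc {i : ℕ} {x : G} : x ∈ dc D f s i ↔ ∃ a < NC, ∃ b < NC, f a * gEl D f s i * f b = x := by
  simp only [dc, Finset.mem_image, Finset.mem_product, Finset.mem_range, Prod.exists]
  constructor
  · rintro ⟨_, _, ⟨⟨a, ha, rfl⟩, b, hb, rfl⟩, rfl⟩
    exact ⟨a, ha, b, hb, rfl⟩
  · rintro ⟨a, ha, b, hb, rfl⟩
    exact ⟨_, _, ⟨⟨a, ha, rfl⟩, b, hb, rfl⟩, rfl⟩

omit hf he in
theorem card_image : ((Finset.range NC).image f).card = NC := by
  rw [Finset.card_image_of_injOn, Finset.card_range]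
  intro c hc d hd h
  exact S.inj c d (Finset.mem_range.1 hc) (Finset.mem_range.1 hd) h

omit hf he in
theorem dc_zero : (dc D f s 0).card ≤ NC := by
  refine le_trans (Finset.card_le_card (t := (Finset.range NC).image f) ?_) (S.card_image).le
  intro x hx
  obtain ⟨a, ha, b, hb, rfl⟩ := S.mem_dc.1 hx
  rw [gEl_zero, mul_one, S.mul _ _ ha hb]
  exact Finset.mem_image.2 ⟨_, Finset.mem_range.2 (S.lt _ _ ha hb), rfl⟩

omit he in
theorem elems_spec {L : Live} (hL : elemsOk D L = true) (hd : ∀ k < D.K, ∀ x ∈ D.dgens.getD k [], x.1 < NC ∧ x.2 < NC) :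
    ∃ P : Finset ℕ, P.card * L.size = NC ∧ ∀ p ∈ P, p < NC ∧ ∃ q < NC, f p * gEl D f s L.node = gEl D f s L.node * f q := by
  have H := S.upto_all hd hf
  let Good : ℕ → Prop := fun p => p < NC ∧ ∃ q < NC, f p * gEl D f s L.node = gEl D f s L.node * f q
  have hgo : ∀ (l : List (ℕ × ℕ × ℕ)) (bits : ℕ) (P : Finset ℕ), (∀ n, bits.testBit n = true ↔ n ∈ P) →
      (∀ p ∈ P, Good p) → elemsGo D L.node l bits = true →
      ∃ P' : Finset ℕ, P'.card = P.card + l.length ∧ ∀ p ∈ P', Good p := by
    intro l
    induction l with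
    | nil => intro bits P _ hP _; exact ⟨P, by simp, hP⟩
    | cons x l ih =>
      intro bits P hbits hP h
      simp only [elemsGo] at h
      split at h
      · next p q hpe =>
        have force_eq : ∀ {α : Type} (n : ℕ) (k : ℕ → α), force n k = k n := fun n k => by cases n <;> rfl
        rw [force_eq] at h
        simp only [Bool.and_eq_true, Nat.blt_eq, Bool.not_eq_true'] at h
        obtain ⟨⟨⟨⟨hpar, hx⟩, hxe⟩, hnew⟩, hrest⟩ := h
        obtain ⟨hp, hq, hpq⟩ := S.pEval_spec H L.node [x.2.2] p q hpe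
        obtain ⟨hc, q0, hq0, h0⟩ := hP _ ((hbits _).1 hpar)
        have hgood : Good x.1 := ⟨hx, fMul q0 q, S.lt _ _ hq0 hq, by
          rw [beq_true hxe, ← S.mul _ _ hc hp, ← S.mul _ _ hq0 hq, mul_assoc, hpq, ← mul_assoc, h0, mul_assoc]⟩
        have hnp : x.1 ∉ P := fun hm => by rw [(hbits _).2 hm] at hnew; exact Bool.noConfusion hnew
        obtain ⟨P', e1, e2⟩ := ih (bits ||| (1 <<< x.1)) (insert x.1 P) (fun n => by
          simp only [Nat.testBit_or, Nat.one_shiftLeft, Nat.testBit_two_pow, Bool.or_eq_true, hbits,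
            decide_eq_true_eq, Finset.mem_insert]
          exact or_comm.trans (or_congr_left ⟨Eq.symm, Eq.symm⟩)) (by
          intro p hp'
          rcases Finset.mem_insert.1 hp' with rfl | hp'
          exacts [hgood, hP p hp']) hrest
        refine ⟨P', ?_, e2⟩
        rw [e1, Finset.card_insert_of_notMem hnp, List.length_cons]
        omega
      · cases h
  simp only [elemsOk] at hL
  split at hL
  · next x rest hx =>
    simp only [Bool.and_eq_true, decide_eq_true_eq] at hL
    obtain ⟨⟨rfl, hgo'⟩, hn⟩ := hL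
    obtain ⟨P', e1, e2⟩ := hgo rest 1 {0} (fun n => by simp [Nat.testBit_one_eq_true_iff_self_eq_zero]) (by
      intro p hp
      obtain rfl := Finset.mem_singleton.1 hp
      exact ⟨by norm_num [NC], 0, by norm_num [NC], by rw [S.one, one_mul, mul_one]⟩) hgo'
    refine ⟨P', ?_, e2⟩
    rw [e1, Finset.card_singleton, ← beq_true hn, hx, List.length_cons]
    ring
  · cases hL

theorem dc_card {L : Live} (hL : L ∈ D.live) : (dc D f s L.node).card ≤ L.size * NC := by
  have he' := he
  simp only [endOk, Bool.and_eq_true] at he'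
  obtain ⟨P, hP, hgood⟩ := S.elems_spec hf (List.all_eq_true.1 he'.1.1.1 L hL) (dgens_lt he)
  set T := (Finset.range NC).image f
  set g := gEl D f s L.node
  have hTmul : ∀ {u v : G}, u ∈ T → v ∈ T → u * v ∈ T := fun {u v} hu hv => by
    obtain ⟨a, ha, rfl⟩ := Finset.mem_image.1 hu
    obtain ⟨b, hb, rfl⟩ := Finset.mem_image.1 hv
    rw [S.mul _ _ (Finset.mem_range.1 ha) (Finset.mem_range.1 hb)]
    exact Finset.mem_image.2 ⟨_, Finset.mem_range.2 (S.lt _ _ (Finset.mem_range.1 ha) (Finset.mem_range.1 hb)), rfl⟩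
  have hTinv : ∀ {u : G}, u ∈ T → u⁻¹ ∈ T := fun {u} hu => by
    obtain ⟨a, ha, rfl⟩ := Finset.mem_image.1 hu
    obtain ⟨d, hd, e⟩ := S.exists_inv (Finset.mem_range.1 ha)
    exact Finset.mem_image.2 ⟨d, Finset.mem_range.2 hd, (inv_eq_of_mul_eq_one_right e).symm⟩
  have hfib : ∀ x ∈ dc D f s L.node, P.card ≤ ((T ×ˢ T).filter fun p => p.1 * g * p.2 = x).card := by
    intro x hx
    obtain ⟨a, ha, b, hb, rfl⟩ := S.mem_dc.1 hx
    refine Finset.card_le_card_of_injOn (fun p => (f a * f p, g⁻¹ * (f p)⁻¹ * g * f b)) ?_ ?_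
    · intro p hp
      obtain ⟨hp1, q, hq, e⟩ := hgood p hp
      have e' : g⁻¹ * (f p)⁻¹ * g = (f q)⁻¹ := by
        have : g⁻¹ * f p * g = f q := by rw [mul_assoc, e]; group
        rw [← this]; group
      refine Finset.mem_filter.2 ⟨Finset.mem_product.2 ⟨hTmul ?_ ?_, ?_⟩, ?_⟩
      · exact Finset.mem_image.2 ⟨a, Finset.mem_range.2 ha, rfl⟩
      · exact Finset.mem_image.2 ⟨p, Finset.mem_range.2 hp1, rfl⟩
      · show g⁻¹ * (f p)⁻¹ * g * f b ∈ T
        rw [e']
        exact hTmul (hTinv (Finset.mem_image.2 ⟨q, Finset.mem_range.2 hq, rfl⟩))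
          (Finset.mem_image.2 ⟨b, Finset.mem_range.2 hb, rfl⟩)
      · show f a * f p * g * (g⁻¹ * (f p)⁻¹ * g * f b) = f a * g * f b
        group
    · intro p hp p' hp' h
      exact S.inj p p' (hgood p hp).1 (hgood p' hp').1 (mul_left_cancel (congrArg Prod.fst h))
  have hmul := Finset.mul_card_image_le_card (s := T ×ˢ T) (f := fun p : G × G => p.1 * g * p.2) P.card hfib
  rw [Finset.card_product, show T.card = NC from S.card_image] at hmul
  have hpos : 0 < P.card := by
    rcases Nat.eq_zero_or_pos P.card with e | e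
    · simp [e, NC] at hP
    · exact e
  refine Nat.le_of_mul_le_mul_left (hmul.trans (le_of_eq ?_)) hpos
  rw [← hP]; ring

/-- The codes and the extra elements. -/
def gensSet (D : Data) (f : ℕ → G) (s : ℕ → G) : Set G := f '' Set.Iio NC ∪ s '' Set.Iio D.K

/-- The generated group is finite, of order at most the bound of the certificate. -/
theorem card_closure_le : Finite ↥(Subgroup.closure (gensSet D f s)) ∧
    Nat.card ↥(Subgroup.closure (gensSet D f s)) ≤ D.n * NC := by
  have he' := he
  simp only [endOk, Bool.and_eq_true, List.all_eq_true, List.mem_range] at he'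
  obtain ⟨⟨⟨-, hk⟩, hn⟩, -⟩ := he'
  have hd := dgens_lt he
  have H := S.upto_all hd hf
  set nodes := 0 :: D.live.map Live.node with hnodes
  let U : Finset G := nodes.toFinset.biUnion (dc D f s)
  have hU1 : (1 : G) ∈ U := Finset.mem_biUnion.2 ⟨0, by simp [hnodes], S.mem_dc.2
    ⟨0, by norm_num [NC], 0, by norm_num [NC], by rw [S.one, gEl_zero]; simp⟩⟩
  have hleft : ∀ h ∈ gensSet D f s, ∀ x ∈ U, h * x ∈ U := by
    intro h hh x hx
    obtain ⟨i, hi, hxi⟩ := Finset.mem_biUnion.1 hx
    obtain ⟨a, ha, b, hb, rfl⟩ := S.mem_dc.1 hxi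
    rcases hh with ⟨c, hc, rfl⟩ | ⟨k, hk', rfl⟩
    · refine Finset.mem_biUnion.2 ⟨i, hi, S.mem_dc.2 ⟨fMul c a, S.lt _ _ hc ha, b, hb, ?_⟩⟩
      rw [← S.mul _ _ hc ha]; group
    · obtain ⟨hreps, hclose⟩ := hk k hk'
      simp only [repsOk, Bool.and_eq_true, List.all_eq_true, List.mem_range, Nat.blt_eq] at hreps
      obtain ⟨h0, hrep⟩ := hreps
      set R := D.reps.getD k []
      have hlen : 0 < R.length := by
        rcases Nat.eq_zero_or_pos R.length with e | e
        · rw [List.length_eq_zero_iff.1 e] at h0; simp at h0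
        · exact e
      -- every code is a normalised element times a representative
      have hcov : ∀ y : ℕ, y < NC → ∃ d d' : ℕ, d < NC ∧ d' < NC ∧ s k * f d = f d' * s k ∧
          ∃ n < R.length, f y = f d * f (R.getD n (0, [])).1 := by
        intro y hy
        refine S.code_induct (P := fun z => ∃ d d' : ℕ, d < NC ∧ d' < NC ∧ s k * f d = f d' * s k ∧
          ∃ n < R.length, z = f d * f (R.getD n (0, [])).1) ?_ ?_ hy
        · refine ⟨0, 0, by norm_num [NC], by norm_num [NC], by simp [S.one], 0, hlen, ?_⟩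
          have : (R.getD 0 (0, [])).1 = 0 := by
            rw [List.getD_eq_getElem _ _ hlen]
            rw [List.getD_eq_getElem _ _ hlen] at h0
            exact beq_true h0
          rw [this, S.one, mul_one]
        · rintro z g hg ⟨d, d', hd1, hd2, hdd, n, hn', rfl⟩
          obtain ⟨gi, hgi, rfl⟩ := cGens_get hg
          have hm : R.getD n (0, []) ∈ R := by
            rw [List.getD_eq_getElem _ _ hn']; exact List.getElem_mem _
          obtain ⟨hw1, hw2⟩ := hrep _ hm
          obtain ⟨hj, heq⟩ := hw2 gi hgi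
          set X := (R.getD n (0, [])).2.getD gi ([], R.length)
          obtain ⟨e1, e2, e3⟩ := S.dEval_spec hd hk' X.1
          have hj' : (R.getD X.2 (0, [])).1 < NC := by
            rw [List.getD_eq_getElem _ _ hj]; exact (hrep _ (List.getElem_mem _)).1
          refine ⟨fMul d (dEval D k X.1).1, fMul d' (dEval D k X.1).2, S.lt _ _ hd1 e1, S.lt _ _ hd2 e2, ?_,
            X.2, hj, ?_⟩
          · rw [← S.mul _ _ hd1 e1, ← S.mul _ _ hd2 e2, ← mul_assoc, hdd, mul_assoc, e3, mul_assoc]
          · rw [← S.mul _ _ hd1 e1, mul_assoc, S.mul _ _ hw1 (cGens_lt hg), beq_true heq, ← S.mul _ _ e1 hj',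
              mul_assoc]
      obtain ⟨d, d', hd1, hd2, hdd, n, hn', hy⟩ := hcov a ha
      have hmem : i ∈ nodes := List.mem_toFinset.1 hi
      obtain ⟨j, hj, hji⟩ := List.mem_iff_getElem.1 hmem
      simp only [closeOk, List.all_eq_true, List.mem_range] at hclose
      have hcl := hclose j hj n hn'
      rw [List.getD_eq_getElem _ _ hj, hji] at hcl
      split at hcl
      · next A hA =>
        simp only [Bool.and_eq_true, stOk, code2_iff, decide_eq_true_eq, List.contains_iff_mem] at hcl
        obtain ⟨⟨hAb, hword⟩, hAn⟩ := hcl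
        have hwn : (R.getD n (0, [])).1 < NC := by
          rw [List.getD_eq_getElem _ _ hn']; exact (hrep _ (List.getElem_mem _)).1
        obtain ⟨-, eA⟩ := S.run_spec hd H _ _ A ⟨hwn, by norm_num [NC]⟩ hA
        rw [hword] at eA
        simp only [stEl, wEval, List.map_cons, List.map_nil, List.prod_cons, List.prod_nil, tokEl, sx,
          if_pos (Set.mem_Iio.1 hk'), mul_one, S.one] at eA
        refine Finset.mem_biUnion.2 ⟨A.i, List.mem_toFinset.2 hAn, S.mem_dc.2
          ⟨fMul d' A.c, S.lt _ _ hd2 hAb.1, fMul A.q b, S.lt _ _ hAb.2 hb, ?_⟩⟩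
        rw [← S.mul _ _ hd2 hAb.1, ← S.mul _ _ hAb.2 hb, hy]
        calc f d' * f A.c * gEl D f s A.i * (f A.q * f b) = f d' * (f A.c * gEl D f s A.i * f A.q) * f b := by group
          _ = (f d' * s k) * (f (R.getD n (0, [])).1 * gEl D f s i) * f b := by rw [eA]; simp only [R]; group
          _ = _ := by rw [← hdd]; group
      · cases hcl
  have hcl : ∀ h ∈ Subgroup.closure (gensSet D f s), U.image (h * ·) = U := by
    intro h hh
    induction hh using Subgroup.closure_induction with
    | mem x hx =>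
      refine Finset.eq_of_subset_of_card_le (fun y hy => ?_) ?_
      · obtain ⟨z, hz, rfl⟩ := Finset.mem_image.1 hy
        exact hleft x hx z hz
      · rw [Finset.card_image_of_injective _ (mul_right_injective x)]
    | one => simp
    | mul x y _ _ ex ey =>
      rw [show ((x * y) * ·) = (x * ·) ∘ (y * ·) from funext fun z => mul_assoc x y z, ← Finset.image_image, ey, ex]
    | inv x _ ex =>
      conv_lhs => rw [← ex]
      rw [Finset.image_image, show (x⁻¹ * ·) ∘ (x * ·) = id from funext fun z => inv_mul_cancel_left x z,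
        Finset.image_id]
  have hsub : (Subgroup.closure (gensSet D f s) : Set G) ⊆ ↑U := fun h hh => by
    have : h * 1 ∈ U.image (h * ·) := Finset.mem_image.2 ⟨1, hU1, rfl⟩
    rw [hcl h hh, mul_one] at this
    exact this
  refine ⟨(U.finite_toSet.subset hsub).to_subtype, ?_⟩
  have h1 : Nat.card ↥(Subgroup.closure (gensSet D f s)) ≤ U.card := by
    rw [← Set.ncard_coe_finset U]
    exact (Nat.card_coe_set_eq _).le.trans (Set.ncard_le_ncard hsub U.finite_toSet)
  refine h1.trans ?_
  have hbi : ∀ l : List ℕ, (l.toFinset.biUnion (dc D f s)).card ≤ (l.map fun i => (dc D f s i).card).sum := by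
    intro l
    induction l with
    | nil => simp
    | cons i l ih =>
      rw [List.toFinset_cons, Finset.biUnion_insert, List.map_cons, List.sum_cons]
      exact (Finset.card_union_le _ _).trans (Nat.add_le_add_left ih _)
  refine (hbi nodes).trans ?_
  rw [hnodes, List.map_cons, List.sum_cons, List.map_map]
  exact total_bound D.live (fun i => (dc D f s i).card) NC D.n S.dc_zero (fun L hL => S.dc_card hf he hL)
    (beq_true hn)

end Sys

end CfsgLib.HeType.Tri
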