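import Cfsg.Agent.Lib.HeType.Cert.Fast

/-!
# Certificates for completions of the centraliser by elements permuting the three involutions of a line

The group is given by the codes of the centraliser `C` and extra elements `s k`, each normalising a subgroup of
`C` through a given map. Node `j` of a certificate stands for a word `g j`; its double coset is `C * g j * C`.
The facts are identities `p * g i = g i * q`, `s * u * g i = c1 * g j * c2` and `g j = a * g i * b`; each one
is checked by following two words from a state `c * g i * q`.
-/

set_option autoImplicit false

namespace CfsgLib.HeType.Tri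

open CfsgLib.HeType.Cert

/-- A letter: a code, or an extra element (`k + K` is the inverse of `k`). -/
inductive Tok
  | c (code : ℕ)
  | s (k : ℕ)
deriving DecidableEq

/-- The element `c * g i * q`. -/
structure St where
  c : ℕ
  i : ℕ
  q : ℕ
deriving DecidableEq

/-- A step from a state. -/
inductive Op
  /-- left multiplication by a code -/
  | code (x : ℕ)
  /-- left multiplication by `s k` through an edge, with a word for `d` and pairs for `p` in `c = d * u * p` -/
  | ext (k e : ℕ) (d ps : List ℕ)
  /-- replace a merged node -/
  | merge (m : ℕ)
  /-- move `p` through the node, with `c = c' * p` -/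
  | pair (e c' : ℕ)

/-- An identity. -/
inductive Concl
  | pair (i p q : ℕ)
  | edge (k u i c1 j c2 : ℕ)
  | merge (j i a b : ℕ)

/-- A reason. -/
inductive Why
  /-- true by the definition of the nodes -/
  | def'
  /-- two words from a state; `rel = some (r, z)` when the first is a rotated relation and the second empty -/
  | walk (st : St) (L R : List Op) (rel : Option (ℕ × ℕ))

/-- A node that remains: number of cosets and the elements moved through it, each an earlier one (its code) times a pair. -/
structure Live where
  node : ℕ
  size : ℕ
  elems : List (ℕ × ℕ × ℕ)

/-- Certificate data. -/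
structure Data where
  K : ℕ
  dgens : List (List (ℕ × ℕ))
  rels : List (List Tok)
  defs : List (ℕ × ℕ × ℕ)
  facts : List (Concl × Why)
  live : List Live
  /-- right coset representatives of the normalised subgroups, with their products by the five generators -/
  reps : List (List (ℕ × List (List ℕ × ℕ)))
  /-- for each extra element, remaining node and representative: the steps -/
  close : List (List (List (List Op)))
  n : ℕ

/-- The number of codes. -/
def NC : ℕ := 21504

/-- The code generators. -/
def cGens : List ℕ := [128, 256, 384, 1, 8]

variable (D : Data)

/-- Is this a pair of codes? -/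
def code2 (a b : ℕ) : Bool := Nat.blt a NC && Nat.blt b NC

/-- The product of a word in the chosen generators of a normalised subgroup, and its image. -/
def dEval (k : ℕ) : List ℕ → ℕ × ℕ
  | [] => (0, 0)
  | g :: w =>
    let p := dEval k w
    let x := (D.dgens.getD (if Nat.blt k D.K then k else k - D.K) []).getD g (0, 0)
    (fMul x.1 p.1, fMul x.2 p.2)

/-- The preimage and image under conjugation by `s k`. -/
def dMap (k : ℕ) (w : List ℕ) : ℕ × ℕ :=
  let p := dEval D k w
  if Nat.blt k D.K then p else (p.2, p.1)

/-- An earlier fact. -/
def factAt (n e : ℕ) : Option Concl :=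
  if Nat.blt e n then (D.facts[e]?).map Prod.fst else none

/-- The product of pairs at a node. -/
def pEval (n i : ℕ) : List ℕ → Option (ℕ × ℕ)
  | [] => some (0, 0)
  | e :: w =>
    match factAt D n e, pEval n i w with
    | some (.pair j p q), some (p', q') =>
      if Nat.beq i j && code2 p q then some (fMul p p', fMul q q') else none
    | _, _ => none

/-- One step. -/
def step (n : ℕ) (st : St) : Op → Option St
  | .code x => if Nat.blt x NC then some ⟨fMul x st.c, st.i, st.q⟩ else none
  | .ext k e dw ps =>
    match factAt D n e, pEval D n st.i ps with
    | some (.edge k' u i c1 j c2), some (p, qp) =>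
      let d := dMap D k dw
      if Nat.blt k (2 * D.K) && Nat.beq k k' && Nat.beq i st.i && code2 u c1 && code2 c2 d.1 && code2 d.2 p &&
          code2 qp st.q && Nat.beq (fMul (fMul d.1 u) p) st.c then
        some ⟨fMul d.2 c1, j, fMul (fMul c2 qp) st.q⟩
      else none
    | _, _ => none
  | .merge m =>
    match factAt D n m with
    | some (.merge j i a b) =>
      if Nat.beq j st.i && code2 a b then some ⟨fMul st.c a, i, fMul b st.q⟩ else none
    | _ => none
  | .pair e c' =>
    match factAt D n e with
    | some (.pair i p q) =>
      if Nat.beq i st.i && code2 p q && Nat.blt c' NC && Nat.beq (fMul c' p) st.c then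
        some ⟨c', i, fMul q st.q⟩ else none
    | _ => none

/-- Several steps. -/
def run (n : ℕ) : List Op → St → Option St
  | [], st => some st
  | o :: w, st =>
    match step D n st o with
    | some st' => run n w st'
    | none => none

/-- The word of some steps, as a product. -/
def wordOf : List Op → List Tok
  | [] => []
  | .code x :: w => wordOf w ++ [.c x]
  | .ext k _ _ _ :: w => wordOf w ++ [.s k]
  | .merge _ :: w => wordOf w
  | .pair _ _ :: w => wordOf w

/-- Are two words equal by a rotated relation or literally? -/
def wordsOk (L R : List Tok) : Option (ℕ × ℕ) → Bool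
  | none => decide (L = R)
  | some (r, z) =>
    let w := (D.rels.getD r []).rotate z
    decide (L = w) && decide (R = []) || decide (R = w) && decide (L = [])

/-- Check a state. -/
def stOk (st : St) : Bool := code2 st.c st.q

/-- Check a fact. -/
def factOk (n : ℕ) : Concl × Why → Bool
  | (.pair i p q, .def') => Nat.beq i 0 && Nat.beq p q && Nat.blt p NC
  | (.edge k u i c1 j c2, .def') =>
    Nat.blt i j && decide (D.defs.getD (j - 1) (0, 0, 0) = (k, u, i)) && Nat.blt (j - 1) D.defs.length &&
      Nat.beq c1 0 && Nat.beq c2 0 && Nat.blt u NC
  | (.merge _ _ _ _, .def') => false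
  | (cl, .walk st L R rel) =>
    match run D n L st, run D n R st with
    | some A, some B =>
      stOk st && stOk A && stOk B &&
        match cl with
        | .pair i p q => wordsOk D (wordOf L) (wordOf R) rel && Nat.beq A.i i && Nat.beq B.i i && code2 p q &&
            Nat.beq (fMul A.c p) B.c && Nat.beq (fMul q B.q) A.q
        | .merge j i a b => wordsOk D (wordOf L) (wordOf R) rel && Nat.beq A.i j && Nat.beq B.i i && code2 a b &&
            Nat.beq (fMul A.c a) B.c && Nat.beq (fMul b A.q) B.q
        | .edge k u i c1 j c2 => wordsOk D (.s k :: wordOf L) (wordOf R) rel && Nat.blt k (2 * D.K) &&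
            Nat.beq A.i i && Nat.beq A.c u && Nat.beq B.i j && Nat.beq B.c c1 && Nat.blt c2 NC &&
            Nat.beq (fMul c2 A.q) B.q
    | _, _ => false

/-- All facts. -/
def factsOk : Bool := (List.range D.facts.length).all fun n =>
  match D.facts[n]? with
  | some f => factOk D n f
  | none => false

/-- Evaluate a number first. -/
def force {α : Type} (n : ℕ) (k : ℕ → α) : α :=
  match n with
  | 0 => k 0
  | m + 1 => k (m + 1)

/-- Check the remaining elements of a node; `bits` marks those already seen. -/
def elemsGo (node : ℕ) : List (ℕ × ℕ × ℕ) → ℕ → Bool
  | [], _ => true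
  | x :: rest, bits =>
    match pEval D D.facts.length node [x.2.2] with
    | some (p, _) =>
      bits.testBit x.2.1 && Nat.blt x.1 NC && Nat.beq x.1 (fMul x.2.1 p) &&
        !(bits.testBit x.1) && force (bits ||| (1 <<< x.1)) fun b => elemsGo node rest b
    | none => false

/-- The elements of a remaining node: distinct products of its pairs. -/
def elemsOk (L : Live) : Bool :=
  match L.elems with
  | x :: rest =>
    decide (x = (0, 0, 0)) && elemsGo D L.node rest 1 && Nat.beq (L.elems.length * L.size) NC
  | [] => false

/-- The cosets of a normalised subgroup. -/
def repsOk (k : ℕ) : Bool :=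
  let R := D.reps.getD k []
  Nat.beq (R.getD 0 (1, [])).1 0 && R.all fun w => Nat.blt w.1 NC && (List.range 5).all fun g =>
    let x := w.2.getD g ([], R.length)
    Nat.blt x.2 R.length &&
      Nat.beq (fMul w.1 (cGens.getD g 0)) (fMul (dEval D k x.1).1 (R.getD x.2 (0, [])).1)

/-- Closure under the extra elements. -/
def closeOk (k : ℕ) : Bool :=
  let nodes := 0 :: D.live.map Live.node
  let R := D.reps.getD k []
  (List.range nodes.length).all fun a => (List.range R.length).all fun b =>
    let ops := ((D.close.getD k []).getD a []).getD b []
    match run D D.facts.length ops ⟨(R.getD b (0, [])).1, nodes.getD a 0, 0⟩ with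
    | some A => stOk A && decide (wordOf ops = [.s k]) && nodes.contains A.i
    | none => false

/-- The whole certificate apart from the facts. -/
def endOk : Bool :=
  D.live.all (elemsOk D) && ((List.range D.K).all fun k => repsOk D k && closeOk D k) &&
    Nat.beq (1 + (D.live.map Live.size).sum) D.n &&
    D.dgens.all fun l => l.all fun x => code2 x.1 x.2

end CfsgLib.HeType.Tri
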